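import Cfsg.Agent.H583.DPi.Tool
import Cfsg.Agent.H68.RatB.Ru
import Cfsg.Agent.H845.CopTits
import Cfsg.Agent.H87.TitsData

/-!
# S4247, sporadic rows: `Ru` (no involution centralises a Sylow 3-subgroup) and the Tits group (helper803)
-/

set_option autoImplicit false
set_option linter.unusedSectionVars false

namespace Cfsg.Agent.H803.DPi

open Subgroup Cfsg Cfsg.Agent.H583.DPi Cfsg.Agent.SporadicB

universe u v

/-- `NF` along isomorphisms -/
theorem nf_congr {G : Type u} {H : Type v} [Group G] [Group H] (e : G ≃* H) {s a t : ℕ} (h : NF G s a t) : NF H s a t := by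
  intro Q hQ y hy hc
  refine h (Q.map e.symm.toMonoidHom) ?_ (e.symm y) ?_ ?_
  · rw [card_map_of_injective e.symm.injective, hQ]
  · rw [← hy]
    exact MulEquiv.orderOf_eq e.symm y
  · rintro x ⟨z, hz, rfl⟩
    show e.symm z * e.symm y = e.symm y * e.symm z
    rw [← map_mul, ← map_mul, hc z hz]

/-- a Sylow `s`-subgroup whose centraliser is an `s`-group -/
theorem nf_of_sylow {G : Type u} [Group G] [Finite G] {s a t : ℕ} [hs : Fact s.Prime] (ht : ¬ ∃ k, t = s ^ k)
    (hd : s ^ a ∣ Nat.card G) (hnd : ¬ s ^ (a + 1) ∣ Nat.card G) {P : Subgroup G} (hP : IsPGroup s P)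
    (hC : IsPGroup s (centralizer (P : Set G))) : NF G s a t := by
  intro Q hQ y hy hc
  obtain ⟨R, hPR⟩ := hP.exists_le_sylow
  obtain ⟨T, hQT⟩ := (IsPGroup.of_card hQ).exists_le_sylow
  have hfac : (Nat.card G).factorization s = a := by
    have h0 : Nat.card G ≠ 0 := Nat.card_pos.ne'
    have h1 := (hs.out.pow_dvd_iff_le_factorization h0).1 hd
    have h2 : ¬ a + 1 ≤ (Nat.card G).factorization s := fun hh =>
      hnd ((hs.out.pow_dvd_iff_le_factorization h0).2 hh)
    omega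
  have hTc : Nat.card T = s ^ a := by rw [T.card_eq_multiplicity, hfac]
  have hQT' : Q = (T : Subgroup G) := eq_of_le_of_card_ge hQT (by rw [hQ]; exact hTc.le)
  obtain ⟨g, hg⟩ := MulAction.exists_smul_eq G T R
  -- `g y g⁻¹` centralises `R ≥ P`
  have h1 : g * y * g⁻¹ ∈ centralizer (P : Set G) := by
    rw [mem_centralizer_iff]
    intro x hx
    have hx2 : x ∈ (R : Subgroup G) := hPR hx
    rw [← hg, Sylow.coe_subgroup_smul, mem_smul_pointwise_iff_exists] at hx2
    obtain ⟨z, hz, rfl⟩ := hx2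
    have hz' : z ∈ Q := by rw [hQT']; exact hz
    have h2 := hc z hz'
    show g * z * g⁻¹ * (g * y * g⁻¹) = g * y * g⁻¹ * (g * z * g⁻¹)
    calc g * z * g⁻¹ * (g * y * g⁻¹) = g * (z * y) * g⁻¹ := by group
      _ = g * (y * z) * g⁻¹ := by rw [h2]
      _ = _ := by group
  obtain ⟨k, hk⟩ := (IsPGroup.iff_orderOf.1 hC) ⟨g * y * g⁻¹, h1⟩
  rw [Subgroup.orderOf_mk] at hk
  apply ht
  refine ⟨k, ?_⟩
  rw [← hk, ← hy]
  exact (MulEquiv.orderOf_eq (MulAut.conj g) y).symm

theorem nf_ru {S : Type u} [Group S] [Finite S] (h : Spor.IsoRu S) : NF S 3 3 2 := by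
  have hc := NotCT.Orders.ru h
  obtain ⟨e⟩ := h
  let e' := e.trans RuLat.Main.equiv
  have := Finite.of_equiv _ e'.toEquiv
  have h3 : Fact (Nat.Prime 3) := ⟨Nat.prime_three⟩
  have hc' : Nat.card RuOrder.H = 145926144000 := by rw [← Nat.card_congr e'.toEquiv, hc]
  refine nf_congr e'.symm (nf_of_sylow ?_ (by rw [hc']; norm_num) (by rw [hc']; norm_num)
    H68.RatB.Ru.isPGroup_U H68.RatB.Ru.isPGroup_centralizer_U)
  rintro ⟨k, hk⟩
  rcases Nat.eq_zero_or_pos k with rfl | hk0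
  · norm_num at hk
  · have : 3 ∣ 2 := by rw [hk]; exact dvd_pow_self 3 hk0.ne'
    revert this
    decide

theorem c_tits_aux {X : Type v} [Group X] (K : Subgroup X) {G : Type u} [Group G] (e : Nonempty (G ≃* commutator K))
    {r : ℕ} (h : HasC (commutator K) r) : HasC G r := by
  obtain ⟨e⟩ := e
  exact h.congr e.symm

theorem c_of_dat {S : Type u} [Group S] [Finite S] (h : Lie.IsoTits S) (D : Cfsg.Agent.H87.TitsAbs.Dat S) : HasC S 13 :=
  ⟨D.x, H845.CopTits.card_cent_x h D⟩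

theorem c_titsGroup : HasC Cfsg.Lie.TitsGroup 13 := by
  have : Finite Cfsg.Lie.TitsGroup := by
    apply Nat.finite_of_card_ne_zero
    rw [Cfsg.Agent.H87.TitsData.card_tits]
    norm_num
  obtain ⟨D⟩ := Cfsg.Agent.H87.TitsData.dat_tits
  exact c_of_dat ⟨MulEquiv.refl _⟩ D

theorem c_tits {S : Type u} [Group S] (h : Lie.IsoTits S) : HasC S 13 := c_tits_aux _ h c_titsGroup

end Cfsg.Agent.H803.DPi
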